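import Cfsg.Agent.Lib.SmallGroups.Mod.Stage

/-!
# The adjoint module of a projective representation

The three dimensional module of `SmallGroups.Mod.Stage`, for a quotient by a subgroup acting
by scalars.
-/

set_option autoImplicit false
set_option linter.unusedSectionVars false

namespace Cfsg.Agent.Blocks88.HalfDegree

open Matrix Finset SmallGroups.Mod

variable {k : Type*} [Field k] {p : ℕ} [Fact p.Prime] [CharP k p] {G : Type*} [Group G] [Finite G]
  {S₀ : Type*} [Group S₀] [Finite S₀]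

set_option maxHeartbeats 1000000 in
/-- The adjoint module with its form for a representation up to scalars, from a block of size at
most `p / 2`. -/
theorem exists_adjoint_proj [IsAlgClosed k] {d ℓ : ℕ} (π : G →* S₀) (hπ : Function.Surjective π)
    (f : Frob S₀ p k) {z w : G} (hz : π z = f.z) (hw : π w = f.w) (hwz : w * z = z ^ f.A * w)
    (ρ : G →* Matrix (Fin d) (Fin d) k) (hker : ∀ c : G, π c = 1 → ∃ ω : k, ρ c = ω • 1)
    (hℓ : 2 ≤ ℓ) (hℓp : 2 * ℓ ≤ p) (hD : (ρ z - 1) ^ ℓ = 0)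
    (hD' : (ρ z - 1) ^ (ℓ - 1) ≠ 0) :
    ∃ R : S₀ →* Matrix (Fin 3) (Fin 3) k,
      R f.z = adA k ∧ ∀ g, (R g)ᵀ * form3 k * R g = form3 k := by
  classical
  have hp : p.Prime := Fact.out
  have ha := f.a_ne_zero
  have hv : hval k ℓ ≠ 0 := hval_ne_zero hp hℓ (by omega)
  haveI : Nontrivial (Matrix (Fin d) (Fin d) k) := ⟨⟨_, _, hD'⟩⟩
  -- the representation up to scalars
  let σ₀ : G →* (Module.End k (Matrix (Fin d) (Fin d) k))ˣ := MonoidHom.toHomUnits (adRep ρ)
  have hadker : π.ker ≤ σ₀.ker := by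
    intro c hc
    obtain ⟨ω, hω⟩ := hker c hc
    refine Units.ext (LinearMap.ext fun X => ?_)
    have h1 : ρ c * ρ c⁻¹ = 1 := by rw [← map_mul, mul_inv_cancel, map_one]
    rw [hω, Matrix.smul_mul, Matrix.one_mul] at h1
    show adRep ρ c X = _
    rw [adRep_apply, hω, Matrix.smul_mul, Matrix.one_mul, Matrix.smul_mul, ← Matrix.mul_smul, h1,
      Matrix.mul_one]
    rfl
  let Ψ₀ : S₀ →* (Module.End k (Matrix (Fin d) (Fin d) k))ˣ := π.liftOfSurjective hπ ⟨σ₀, hadker⟩
  let Ψ : Representation k S₀ (Matrix (Fin d) (Fin d) k) := (Units.coeHom _).comp Ψ₀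
  have hΨ : ∀ g, Ψ (π g) = adRep ρ g := fun g =>
    congrArg Units.val
      (π.liftOfRightInverse_comp_apply _ (Function.rightInverse_surjInv hπ) ⟨σ₀, hadker⟩ g)
  -- the torus element, rescaled
  obtain ⟨γ, hγ⟩ := hker (w ^ f.e) (by rw [map_pow, hw, f.hw])
  have hγ0 : γ ≠ 0 := fun h => by
    have h1 : ρ (w ^ f.e) * ρ (w ^ f.e)⁻¹ = 1 := by rw [← map_mul, mul_inv_cancel, map_one]
    rw [hγ, h, zero_smul, Matrix.zero_mul] at h1
    exact zero_ne_one h1
  obtain ⟨ω, hω⟩ := IsAlgClosed.exists_pow_nat_eq γ f.he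
  have hω0 : ω ≠ 0 := fun h => hγ0 (by rw [← hω, h, zero_pow f.he.ne'])
  obtain ⟨μ, ι, L, -, hLι, hZι, hLZ, hWι, hLW⟩ := exists_block (k := k) (p := p) (by omega)
    (by omega) f.he f.hep hD hD' (W := ω⁻¹ • ρ w)
    (by rw [smul_pow, ← map_pow, hγ, smul_smul, inv_pow, hω, inv_mul_cancel₀ hγ0, one_smul])
    (A := f.A) (by rw [Matrix.smul_mul, Matrix.mul_smul, ← map_mul, hwz, map_mul, map_pow]) f.ha
  obtain ⟨hz1, hz2⟩ := block_conj hv hLι (Z := ρ z) (Zi := ρ z⁻¹)
    (by rw [← map_mul, mul_inv_cancel, map_one]) hZι hLZ (adA k) _ adA_inv blockA_mul_tri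
  obtain ⟨hw1, hw2⟩ := block_conj hv hLι (Z := ω⁻¹ • ρ w) (Zi := ω • ρ w⁻¹)
    (by rw [Matrix.smul_mul, Matrix.mul_smul, smul_smul, inv_mul_cancel₀ hω0, one_smul, ← map_mul,
      mul_inv_cancel, map_one]) hWι hLW _ _ (torus3_inv ha) (torus_mul_tri3 μ ha)
  have hΨz : ∀ X, Ψ f.z X = ρ z * X * ρ z⁻¹ := fun X => by rw [← hz, hΨ, adRep_apply]
  have hΨw : ∀ X, Ψ f.w X = (ω⁻¹ • ρ w) * X * (ω • ρ w⁻¹) := fun X => by
    rw [← hw, hΨ, adRep_apply, Matrix.smul_mul, Matrix.smul_mul, Matrix.mul_smul, smul_smul,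
      inv_mul_cancel₀ hω0, one_smul]
  let j : (Fin 3 → k) →ₗ[k] Matrix (Fin d) (Fin d) k := sandwich ι L ∘ₗ triMap k ℓ
  let r : Matrix (Fin d) (Fin d) k →ₗ[k] (Fin 3 → k) := coord k ℓ ∘ₗ sandwich L ι
  have hrj : ∀ c, r (j c) = c := fun c => by
    show coord k ℓ (L * (ι * tri ℓ c * L) * ι) = c
    rw [show L * (ι * tri ℓ c * L) * ι = (L * ι) * tri ℓ c * (L * ι) by
      simp only [Matrix.mul_assoc], hLι, Matrix.one_mul, Matrix.mul_one, coord_tri hv]
  obtain ⟨R, j', r', hRz, hrj', hRg, hB⟩ := stage f Ψ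
    (by rw [← hz, hΨ]; exact adRep_nilpotent ρ hD (by omega)) j r hrj
    (fun c => (hΨz _).trans (hz1 c))
    (fun X => (congrArg r (hΨz X)).trans (hz2 X))
    (diagonal ![(f.A : k)⁻¹, 1, (f.A : k)])
    (fun c => (hΨw _).trans (hw1 c))
    (fun X => (congrArg r (hΨw X)).trans (hw2 X))
  let β : (Fin 3 → k) → (Fin 3 → k) → k := fun a b => Matrix.trace (j' a * j' b)
  have hinv : ∀ s X Y, Matrix.trace (Ψ s X * Ψ s Y) = Matrix.trace (X * Y) := by
    intro s X Y
    obtain ⟨g, rfl⟩ := hπ s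
    rw [hΨ, adRep_apply, adRep_apply, show ρ g * X * ρ g⁻¹ * (ρ g * Y * ρ g⁻¹) =
      ρ g * (X * (ρ g⁻¹ * ρ g) * Y * ρ g⁻¹) by simp only [Matrix.mul_assoc], ← map_mul,
      inv_mul_cancel, map_one, Matrix.mul_one, Matrix.trace_mul_comm, Matrix.mul_assoc,
      ← map_mul, inv_mul_cancel, map_one, Matrix.mul_one]
  have hsa := hB (fun X Y => Matrix.trace (X * Y)) hinv
    (fun X Y Z => by rw [Matrix.add_mul, Matrix.trace_add])
    (fun X Y Z => by rw [Matrix.mul_add, Matrix.trace_add]) (fun X Y => by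
      show Matrix.trace (ι * tri ℓ (coord k ℓ (L * X * ι)) * L * Y) =
        Matrix.trace (X * (ι * tri ℓ (coord k ℓ (L * Y * ι)) * L))
      rw [Matrix.mul_assoc (ι * _), Matrix.mul_assoc ι, Matrix.trace_mul_comm ι, Matrix.mul_assoc,
        tri_coord_self_adjoint hv, ← Matrix.mul_assoc X (ι * _) L, Matrix.trace_mul_comm _ L]
      simp only [Matrix.mul_assoc])
  have hinvβ : ∀ g a b, β (R g *ᵥ a) (R g *ᵥ b) = β a b := fun g a b => by
    show Matrix.trace (j' (R g *ᵥ a) * j' (R g *ᵥ b)) = _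
    rw [← hRg, ← hRg, hinv]
  have hnd : ∀ a, (∀ b, β a b = 0) → a = 0 := by
    intro a h
    have h1 : ∀ Y, Matrix.trace (j' a * Y) = 0 := fun Y => by
      have := hsa (j' a) Y
      simp only [hrj'] at this
      rw [this]; exact h _
    have h2 : j' a = 0 := Matrix.ext fun i l => by
      have := h1 (Matrix.single l i 1)
      rwa [Matrix.trace_mul_single, MulOpposite.op_one, one_smul] at this
    rw [← hrj' a, h2, map_zero]
  -- the matrix of `β`
  let S : Matrix (Fin 3) (Fin 3) k := of fun a b => β (Pi.single a 1) (Pi.single b 1)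
  have hS : ∀ a b, β a b = a ⬝ᵥ S *ᵥ b := by
    intro a b
    have ea : ∀ x : Fin 3 → k, j' x = ∑ i, x i • j' (Pi.single i 1) := fun x => by
      conv_lhs => rw [pi_eq_sum_univ' x]
      rw [map_sum]; simp [map_smul]
    show Matrix.trace (j' a * j' b) = _
    rw [ea a, ea b]
    simp only [Matrix.sum_mul, Matrix.mul_sum, Matrix.smul_mul, Matrix.mul_smul, Matrix.trace_sum,
      Matrix.trace_smul, smul_eq_mul, dotProduct, Matrix.mulVec, S, of_apply, β, Finset.mul_sum]
    rw [Finset.sum_comm]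
    refine Finset.sum_congr rfl fun x _ => Finset.sum_congr rfl fun y _ => ?_
    ring
  have hcol : ∀ (M : Matrix (Fin 3) (Fin 3) k) (a b : Fin 3),
      (Mᵀ * S * M) a b = β (M *ᵥ Pi.single a 1) (M *ᵥ Pi.single b 1) := by
    intro M a b
    rw [hS, Matrix.mulVec_single_one, Matrix.mulVec_single_one]
    simp [Matrix.mul_apply, dotProduct, Matrix.mulVec, Fin.sum_univ_three]
    ring
  have hSinv : ∀ g, (R g)ᵀ * S * R g = S := fun g => Matrix.ext fun a b => by
    rw [hcol, hinvβ]; rfl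
  have hsym : ∀ a b, S a b = S b a := fun a b => by
    simp only [S, of_apply, β]
    rw [Matrix.trace_mul_comm]
  have h2 : (2 : k) ≠ 0 := fun h => by
    have := Nat.le_of_dvd two_pos ((CharP.cast_eq_zero_iff k p 2).mp (by exact_mod_cast h))
    omega
  have hz := hSinv f.z
  rw [hRz] at hz
  have q21 := congrFun (congrFun hz 2) 1
  have q11 := congrFun (congrFun hz 1) 1
  have q01 := congrFun (congrFun hz 0) 1
  have q00 := congrFun (congrFun hz 0) 0
  simp [adA, Matrix.mul_apply, Fin.sum_univ_three] at q21 q11 q01 q00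
  simp only [hsym 1 0, hsym 2 0, hsym 2 1] at q21 q11 q01 q00
  have s22 : S 2 2 = 0 := by simpa [h2] using q21
  have s12 : S 1 2 = 0 := (mul_eq_zero.mp
    (show (2 : k) * (2 * S 1 2) = 0 by linear_combination q11 - 4 * s22)).resolve_left h2
    |> fun h => (mul_eq_zero.mp h).resolve_left h2
  have s11 : S 1 1 = -2 * S 0 2 := by linear_combination q01 - 3 * s12 - 2 * s22
  have s01 : S 0 1 = 0 := (mul_eq_zero.mp
    (show (2 : k) * S 0 1 = 0 by linear_combination q00 - s11 - 2 * s12 - s22)).resolve_left h2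
  have hb : S 0 2 ≠ 0 := by
    intro h
    have h3 : (Pi.single 2 1 : Fin 3 → k) = 0 := hnd _ fun b => by
      rw [hS]
      simp [dotProduct, Matrix.mulVec, Fin.sum_univ_three, hsym 2 0, hsym 2 1, h, s12, s22]
    simpa using congrFun h3 2
  set κ : k := -S 0 0 / (2 * S 0 2) with hκ
  let T : Matrix (Fin 3) (Fin 3) k := !![1, 0, 0; 0, 1, 0; κ, 0, 1]
  let Ti : Matrix (Fin 3) (Fin 3) k := !![1, 0, 0; 0, 1, 0; -κ, 0, 1]
  have hT : T * Ti = 1 := by
    ext i j
    fin_cases i <;> fin_cases j <;> simp [T, Ti, Matrix.mul_apply, Fin.sum_univ_three]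
  have hT' : Ti * T = 1 := mul_eq_one_comm.mp hT
  have hTS : Tᵀ * S * T = S 0 2 • form3 k := by
    ext i j
    fin_cases i <;> fin_cases j <;>
      simp [T, form3, Matrix.mul_apply, Fin.sum_univ_three, hsym 1 0, hsym 2 0, hsym 2 1, s22, s12,
        s11, s01, hκ] <;> field_simp <;> ring
  let R' : S₀ →* Matrix (Fin 3) (Fin 3) k :=
    { toFun := fun g => Ti * R g * T
      map_one' := by rw [map_one, Matrix.mul_one, hT']
      map_mul' := fun a b => by
        rw [map_mul, show Ti * R a * T * (Ti * R b * T) = Ti * R a * (T * Ti) * R b * T by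
          simp only [Matrix.mul_assoc], hT, Matrix.mul_one]
        simp only [Matrix.mul_assoc] }
  refine ⟨R', ?_, fun g => ?_⟩
  · show Ti * R f.z * T = adA k
    rw [hRz]
    ext i j
    fin_cases i <;> fin_cases j <;> simp [T, Ti, adA, Matrix.mul_apply, Fin.sum_univ_three]
  · refine smul_right_injective _ hb ?_
    show S 0 2 • ((Ti * R g * T)ᵀ * form3 k * (Ti * R g * T)) = S 0 2 • form3 k
    rw [← Matrix.smul_mul, ← Matrix.mul_smul, ← hTS, Matrix.transpose_mul, Matrix.transpose_mul]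
    calc Tᵀ * ((R g)ᵀ * Tiᵀ) * (Tᵀ * S * T) * (Ti * R g * T)
        = Tᵀ * ((R g)ᵀ * ((Tiᵀ * Tᵀ) * S * (T * Ti)) * R g) * T := by
          simp only [Matrix.mul_assoc]
      _ = Tᵀ * S * T := by
          rw [hT, ← Matrix.transpose_mul, hT, Matrix.transpose_one, Matrix.one_mul, Matrix.mul_one,
            hSinv, Matrix.mul_assoc]

end Cfsg.Agent.Blocks88.HalfDegree
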