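import Cfsg.Agent.BlkChar.SmallDegree.Main
import Cfsg.Agent.BlkChar.PSolvDegree
import Cfsg.Agent.Lib.Thompson.PSolvable
import Cfsg.Agent.Lib.CharClifford.Central
import Mathlib.FieldTheory.IsAlgClosed.AlgebraicClosure

/-!
# Faithful characters of degree exactly `(p - 1) / 2`

Irreducibility, the normal subgroups and the reduction modulo `p` of a faithful character of
degree `(p - 1) / 2` of a group whose Sylow subgroup of order `p` is not normal.
-/

set_option linter.unusedSectionVars false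

open Cfsg
open scoped commutatorElement

namespace Cfsg.Agent.Blocks88.HalfDegree

open BlocksCore BlkChar.SmallDegree SmallGroups.SelfCent

universe u

variable {G : Type u} [Group G] [Fintype G] {p : ℕ} [Fact p.Prime]

theorem not_dvd_index_zpowers (hsq : ¬ p ^ 2 ∣ Nat.card G) {z : G} (hz : orderOf z = p) :
    ¬ p ∣ (Subgroup.zpowers z).index := fun h => hsq (by
  rw [← Subgroup.card_mul_index (Subgroup.zpowers z), Nat.card_zpowers, hz, pow_two]
  exact Nat.mul_dvd_mul_left p h)

/-- An element of order dividing `p` commuting with `z` lies in `⟨z⟩`. -/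
theorem mem_zpowers_of_commute (s : Setup G p) {y : G} (h : y * s.z = s.z * y) (hy : y ^ p = 1) :
    y ∈ Subgroup.zpowers s.z := by
  obtain ⟨a, w, hw, rfl⟩ := s.exists_of_mem_cent (Subgroup.mem_centralizer_singleton_iff.mpr h)
  rw [(s.comm_zp a hw).mul_pow, s.zp_pow, ZMod.natCast_self, mul_zero, s.zp_zero, one_mul] at hy
  have h1 : orderOf w ∣ p := orderOf_dvd_of_pow_eq_one hy
  have h2 : orderOf w ∣ Nat.card s.K := Subgroup.orderOf_dvd_natCard _ hw
  have h3 : orderOf w ∣ 1 := (s.coprime_card : Nat.Coprime p _) ▸ Nat.dvd_gcd h1 h2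
  rw [orderOf_eq_one_iff.mp (Nat.dvd_one.mp h3), mul_one]
  exact pow_mem (Subgroup.mem_zpowers _) _

/-- A normal subgroup containing no element of order `p` commutes with `z` if it does modulo `⟨z⟩`;
a normal subgroup of order divisible by `p` contains every element of order `p`. -/
theorem mem_of_dvd_card (hsq : ¬ p ^ 2 ∣ Nat.card G) (U : Subgroup G) [U.Normal]
    (hU : p ∣ Nat.card U) {y : G} (hy : y ^ p = 1) : y ∈ U := by
  refine mem_of_pow_eq_one Fact.out (fun h => hsq ?_) hy
  rw [← Subgroup.card_mul_index U, pow_two]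
  exact mul_dvd_mul hU h

/-- Below degree `(p - 1) / 2` in every constituent the Sylow subgroup would be normal. -/
theorem isIrrCharacter_of_degree (hsq : ¬ p ^ 2 ∣ Nat.card G) {z : G} (hz : orderOf z = p)
    (hP : ¬ (Subgroup.zpowers z).Normal) {χ : G → ℂ} (hχ : IsCharacter G χ)
    (hf : ∀ g : G, χ g = χ 1 → g = 1) (hdeg : 2 * charDegree χ + 1 = p) :
    IsIrrCharacter G χ := by
  classical
  have hp : p.Prime := Fact.out
  by_contra hni
  obtain ⟨d, hd⟩ := CharCore.IsCharacter.exists_degree hχ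
  have hχd : charDegree χ = d := by rw [charDegree, hd, Complex.natCast_re, Nat.floor_natCast]
  choose a ha using fun ψ : IrrCharacter G =>
    CharCore.IsCharacter.exists_classInner_eq_natCast hχ (CharCore.irr_isCharacter ψ)
  have hdec : ∀ g, χ g = ∑ ψ : IrrCharacter G, (a ψ : ℂ) * (ψ : G → ℂ) g := fun g => by
    conv_lhs => rw [CharCore.IsCharacter.eq_sum_classInner hχ]
    simp [ha]
  have hsum : d = ∑ ψ : IrrCharacter G, a ψ * charDegree (ψ : G → ℂ) := by
    have h := hdec 1
    rw [hd, Finset.sum_congr rfl fun ψ _ => by rw [irr_one_eq]] at h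
    exact_mod_cast h
  have hlt : ∀ ψ : IrrCharacter G, a ψ ≠ 0 → charDegree (ψ : G → ℂ) < d := by
    intro ψ hψ
    by_contra hle
    push Not at hle
    refine hni ?_
    have hz' := Finset.add_sum_erase (Finset.univ : Finset (IrrCharacter G))
      (fun φ => a φ * charDegree (φ : G → ℂ)) (Finset.mem_univ ψ)
    rw [← hsum] at hz'
    have hd1 : a ψ * charDegree (ψ : G → ℂ) ≤ d := by omega
    have ha1 : a ψ = 1 := by
      have h0 := charDegree_pos ψ
      by_contra hne
      have : 2 * charDegree (ψ : G → ℂ) ≤ a ψ * charDegree (ψ : G → ℂ) :=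
        Nat.mul_le_mul_right _ (by omega)
      omega
    have hrest : ∀ φ, φ ≠ ψ → a φ = 0 := by
      intro φ hφ
      have h0 : ∑ φ ∈ Finset.univ.erase ψ, a φ * charDegree (φ : G → ℂ) = 0 := by
        rw [ha1, one_mul] at hz'; omega
      have := Finset.sum_eq_zero_iff.mp h0 φ (Finset.mem_erase.mpr ⟨hφ, Finset.mem_univ _⟩)
      exact (mul_eq_zero.mp this).resolve_right (charDegree_pos φ).ne'
    have e : χ = (ψ : G → ℂ) := funext fun g => by
      rw [hdec, Finset.sum_eq_single ψ (fun φ _ hφ => by rw [hrest φ hφ, Nat.cast_zero, zero_mul])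
        (fun h => absurd (Finset.mem_univ _) h), ha1, Nat.cast_one, one_mul]
    exact e ▸ ψ.2
  have hzp : z ^ p = 1 := by rw [← hz, pow_orderOf_eq_one]
  have hkey : ∀ ψ, a ψ ≠ 0 → ∀ g : G,
      (ψ : G → ℂ) ⁅g * z * g⁻¹, z⁆ = (ψ : G → ℂ) 1 := by
    intro ψ hψ g
    set U := CharCore.charKernel (CharCore.irr_isCharacter ψ) with hU
    suffices h : ⁅g * z * g⁻¹, z⁆ ∈ U from h
    have hgz : (g * z * g⁻¹) ^ p = 1 := by rw [conj_pow, hzp, mul_one, mul_inv_cancel]
    by_cases hd' : p ∣ Nat.card U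
    · have h1 := mem_of_dvd_card hsq U hd' hgz
      have h2 := mem_of_dvd_card hsq U hd' hzp
      rw [commutatorElement_def]
      exact mul_mem (mul_mem (mul_mem h1 h2) (inv_mem h1)) (inv_mem h2)
    have hdq : p ∣ Nat.card (G ⧸ U) := by
      have h : p ∣ Nat.card G := hz ▸ orderOf_dvd_natCard z
      rw [← Subgroup.card_mul_index U] at h
      exact (hp.dvd_mul.mp h).resolve_left hd'
    have hsqq : ¬ p ^ 2 ∣ Nat.card (G ⧸ U) := fun h => hsq (by
      rw [← Subgroup.card_mul_index U]; exact h.mul_left _)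
    obtain ⟨ψ', hψ'c, -, hψ'⟩ := CharCore.IsCharacter.exists_quotient
      (CharCore.irr_isCharacter ψ) U (fun k hk => hk)
    have hψ'1 : ψ' 1 = (ψ : G → ℂ) 1 := by rw [hψ' 1, map_one]
    have hf' : ∀ q : G ⧸ U, ψ' q = ψ' 1 → q = 1 := by
      intro q hq
      obtain ⟨g, rfl⟩ := QuotientGroup.mk_surjective q
      rw [QuotientGroup.eq_one_iff, hU, CharCore.mem_charKernel, hψ' g, ← hψ'1]
      exact hq
    have hdeg' : 2 * charDegree ψ' + 1 < p := by
      have : charDegree ψ' = charDegree (ψ : G → ℂ) := by rw [charDegree, charDegree, hψ'1]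
      have := hlt ψ hψ
      omega
    obtain ⟨H, hH, hHc⟩ := exists_normal hp hdq hsqq hψ'c hf' hdeg'
    haveI : IsCyclic H := isCyclic_of_prime_card hHc
    have hi : ¬ p ∣ H.index := fun h => hsqq (by
      rw [← Subgroup.card_mul_index H, hHc, pow_two]
      exact Nat.mul_dvd_mul_left p h)
    have h1 : (QuotientGroup.mk' U) (g * z * g⁻¹) ∈ H :=
      mem_of_pow_eq_one hp hi (by rw [← map_pow, hgz, map_one])
    have h2 : (QuotientGroup.mk' U) z ∈ H :=
      mem_of_pow_eq_one hp hi (by rw [← map_pow, hzp, map_one])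
    rw [← QuotientGroup.eq_one_iff]
    show (QuotientGroup.mk' U) ⁅g * z * g⁻¹, z⁆ = 1
    rw [map_commutatorElement, commutatorElement_eq_one_iff_commute]
    exact congrArg Subtype.val (IsCyclic.commGroup.mul_comm (⟨_, h1⟩ : H) ⟨_, h2⟩)
  obtain ⟨s, rfl⟩ := BlocksCore.CyclicCount.exists_setup hz (not_dvd_index_zpowers hsq hz)
  refine hP ⟨fun x hx g => ?_⟩
  obtain ⟨i, rfl⟩ := Subgroup.mem_zpowers_iff.mp hx
  rw [← conj_zpow]
  refine zpow_mem (mem_zpowers_of_commute s ?_ ?_) i
  · refine commutatorElement_eq_one_iff_mul_comm.mp (hf _ ?_)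
    rw [hdec, hdec]
    refine Finset.sum_congr rfl fun ψ _ => ?_
    by_cases h : a ψ = 0
    · simp [h]
    · rw [hkey ψ h g]
  · rw [conj_pow, hzp, mul_one, mul_inv_cancel]

/-- What is needed about `G`: `z` generates a Sylow subgroup which is not normal, and `χ` is
faithful irreducible of degree `(p - 1) / 2`. -/
structure Data (G : Type u) [Group G] [Fintype G] (p : ℕ) [Fact p.Prime] where
  s : Setup G p
  hsq : ¬ p ^ 2 ∣ Nat.card G
  hP : ¬ (Subgroup.zpowers s.z).Normal
  χ : IrrCharacter G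
  hf : ∀ g : G, (χ : G → ℂ) g = (χ : G → ℂ) 1 → g = 1
  hdeg : 2 * charDegree (χ : G → ℂ) + 1 = p

namespace Data

variable (D : Data G p)

theorem hidx : ¬ p ∣ (Subgroup.zpowers D.s.z).index := not_dvd_index_zpowers D.hsq D.s.orderOf_z

theorem zpow_p : D.s.z ^ p = 1 := by
  have h := pow_orderOf_eq_one D.s.z
  rwa [D.s.orderOf_z] at h

theorem notMem_center : D.s.z ∉ Subgroup.center G := fun h => D.hP
  ⟨fun x hx g => by
    obtain ⟨i, rfl⟩ := Subgroup.mem_zpowers_iff.mp hx
    rw [Subgroup.mem_center_iff.mp (zpow_mem h i) g, mul_inv_cancel_right]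
    exact hx⟩

/-- Subgroups generated by a conjugation-closed set of elements of order `p`. -/
def L (D : Data G p) : Subgroup G := Subgroup.normalClosure {D.s.z}

instance normal_L : D.L.Normal := Subgroup.normalClosure_normal

noncomputable instance fintype_L : Fintype D.L := Fintype.ofFinite _

theorem z_mem_L : D.s.z ∈ D.L := Subgroup.subset_normalClosure rfl

theorem L_le {U : Subgroup G} [U.Normal] (h : D.s.z ∈ U) : D.L ≤ U :=
  Subgroup.normalClosure_le_normal (Set.singleton_subset_iff.mpr h)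

theorem mem_L_of_pow {y : G} (hy : y ^ p = 1) : y ∈ D.L := by
  refine mem_of_dvd_card D.hsq D.L ?_ hy
  have h := Subgroup.orderOf_dvd_natCard _ D.z_mem_L
  rwa [D.s.orderOf_z] at h

/-- The restriction of the data to `L`. -/
theorem exists_restrict : ∃ D' : Data D.L p, (D'.s.z : G) = D.s.z ∧
    ∀ g : D.L, (D'.χ : D.L → ℂ) g = (D.χ : G → ℂ) g := by
  classical
  have hsqL : ¬ p ^ 2 ∣ Nat.card D.L := fun h => D.hsq (h.trans (Subgroup.card_subgroup_dvd_card _))
  set z' : D.L := ⟨D.s.z, D.z_mem_L⟩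
  have hz' : orderOf z' = p := by rw [Subgroup.orderOf_mk, D.s.orderOf_z]
  have hP' : ¬ (Subgroup.zpowers z').Normal := by
    intro hN
    refine D.hP ⟨fun x hx g => ?_⟩
    obtain ⟨i, rfl⟩ := Subgroup.mem_zpowers_iff.mp hx
    rw [← conj_zpow]
    refine zpow_mem ?_ i
    have hgz : (g * D.s.z * g⁻¹) ^ p = 1 := by rw [conj_pow, D.zpow_p, mul_one, mul_inv_cancel]
    have hi : ¬ p ∣ (Subgroup.zpowers z').index := not_dvd_index_zpowers hsqL hz'
    have h := mem_of_pow_eq_one (Fact.out : p.Prime) hi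
      (y := (⟨g * D.s.z * g⁻¹, D.mem_L_of_pow hgz⟩ : D.L)) (Subtype.ext hgz)
    obtain ⟨j, hj⟩ := Subgroup.mem_zpowers_iff.mp h
    exact ⟨j, congrArg Subtype.val hj⟩
  have hdeg' : charDegree (fun g : D.L => (D.χ : G → ℂ) g) = charDegree (D.χ : G → ℂ) := rfl
  have hirr := isIrrCharacter_of_degree hsqL hz' hP'
    (CharCore.isCharacter_restrict (CharCore.irr_isCharacter D.χ) D.L)
    (fun g hg => Subtype.ext (D.hf g hg)) (by rw [hdeg']; exact D.hdeg)
  obtain ⟨s', hs'⟩ := BlocksCore.CyclicCount.exists_setup hz' (not_dvd_index_zpowers hsqL hz')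
  exact ⟨⟨s', hsqL, hs' ▸ hP', ⟨_, hirr⟩, fun g hg => Subtype.ext (D.hf g hg), D.hdeg⟩,
    by rw [hs'], fun g => rfl⟩

/-- The centralizer of `L` is the centre. -/
theorem mem_center_of_commute {g : G} (hg : ∀ l ∈ D.L, Commute g l) : g ∈ Subgroup.center G := by
  obtain ⟨D', -, hD'⟩ := D.exists_restrict
  obtain ⟨n, ρ, hρ, hρχ⟩ := D.χ.2
  obtain ⟨m, ρ', hρ', hρ'χ⟩ := D'.χ.2
  let τ : Representation ℂ D.L (Fin n → ℂ) := ρ.comp D.L.subtype
  have hχ' : τ.character = (D'.χ : D.L → ℂ) := funext fun l => by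
    show ρ.character l = _
    rw [hD', hρχ]
  haveI : τ.IsIrreducible :=
    (CharCore.isIrreducible_iff τ).mpr (by rw [hχ']; exact CharCore.classInner_irr_self D'.χ)
  obtain ⟨c, hc⟩ := CharClifford.exists_scalar_of_commute τ (ρ g) fun l =>
    (hg l l.2).map ρ
  rw [Subgroup.mem_center_iff]
  intro x
  refine commutatorElement_eq_one_iff_mul_comm.mp (D.hf _ ?_)
  have hx : ρ x * ρ g = ρ g * ρ x := by rw [hc, mul_smul_comm, smul_mul_assoc, mul_one, one_mul]
  rw [← hρχ]
  show LinearMap.trace ℂ _ (ρ ⁅x, g⁆) = LinearMap.trace ℂ _ (ρ 1)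
  rw [commutatorElement_def, map_mul ρ, map_mul ρ, map_mul ρ, hx, mul_assoc (ρ g),
    ← map_mul ρ x, mul_inv_cancel, map_one, mul_one, ← map_mul, mul_inv_cancel, map_one]

/-- Normal subgroups without `z` are central. -/
theorem le_center_of_notMem {U : Subgroup G} [U.Normal] (hz : D.s.z ∉ U) :
    U ≤ Subgroup.center G := by
  classical
  have hp : p.Prime := Fact.out
  have hpU : ¬ p ∣ Nat.card U := fun h => hz (mem_of_dvd_card D.hsq U h D.zpow_p)
  set P := Subgroup.zpowers D.s.z with hPdef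
  set W := U ⊔ P with hW
  have hUW : U ≤ W := le_sup_left
  have hzW : D.s.z ∈ W := le_sup_right (b := P) (Subgroup.mem_zpowers _)
  have hsqW : ¬ p ^ 2 ∣ Nat.card W := fun h => D.hsq (h.trans (Subgroup.card_subgroup_dvd_card _))
  have hzo : orderOf (⟨D.s.z, hzW⟩ : W) = p := by rw [Subgroup.orderOf_mk, D.s.orderOf_z]
  have hsolv : IsPSolvable p W := by
    refine Thompson.isPSolvable_of_quotient (U.subgroupOf W) (Or.inr ?_)
      (Thompson.isPSolvable_of_isPGroup ?_)
    · rw [Nat.card_congr (Subgroup.subgroupOfEquivOfLe hUW).toEquiv]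
      exact (hp.coprime_iff_not_dvd.mpr hpU).symm
    · intro q
      obtain ⟨⟨w, hw⟩, rfl⟩ := QuotientGroup.mk_surjective q
      obtain ⟨u, hu, y, hy, rfl⟩ := Subgroup.mem_sup_of_normal_left.mp hw
      refine ⟨1, ?_⟩
      have e : ((⟨u * y, hw⟩ : W) : W ⧸ U.subgroupOf W) =
          ((⟨y, Subgroup.mem_sup_right hy⟩ : W) : W ⧸ U.subgroupOf W) := by
        rw [show (⟨u * y, hw⟩ : W) = (⟨u, hUW hu⟩ : W) * ⟨y, Subgroup.mem_sup_right hy⟩ from rfl,
          QuotientGroup.mk_mul, (QuotientGroup.eq_one_iff (⟨u, hUW hu⟩ : W)).mpr hu, one_mul]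
      rw [pow_one, e, ← QuotientGroup.mk_pow]
      obtain ⟨i, rfl⟩ := Subgroup.mem_zpowers_iff.mp hy
      rw [show (⟨D.s.z ^ i, Subgroup.mem_sup_right hy⟩ : W) ^ p = 1 from Subtype.ext (by
        rw [SubgroupClass.coe_pow, ← zpow_natCast, ← zpow_mul, mul_comm, zpow_mul, zpow_natCast,
          D.zpow_p, one_zpow]; rfl), QuotientGroup.mk_one]
  have hPW : IsPGroup p (Subgroup.zpowers (⟨D.s.z, hzW⟩ : W)) :=
    IsPGroup.of_card (n := 1) (by rw [Nat.card_zpowers, hzo, pow_one])
  let Q : Sylow p W := hPW.toSylow (not_dvd_index_zpowers hsqW hzo)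
  have hQ : (Subgroup.zpowers (⟨D.s.z, hzW⟩ : W)).Normal := by
    by_contra h
    have h1 := BlkChar.PSolv.structure_of_degree_le hsolv
      (CharCore.isCharacter_restrict (CharCore.irr_isCharacter D.χ) W)
      (fun g hg => Subtype.ext (D.hf g hg)) (n := charDegree (D.χ : G → ℂ)) (irr_one_eq D.χ)
      (by have := D.hdeg; omega) Q h
    have := charDegree_pos D.χ
    have := D.hdeg
    omega
  have hcz : ∀ u ∈ U, Commute u D.s.z := by
    intro u hu
    obtain ⟨i, hi⟩ := Subgroup.mem_zpowers_iff.mp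
      (hQ.conj_mem _ (Subgroup.mem_zpowers (⟨D.s.z, hzW⟩ : W)) ⟨u, hUW hu⟩)
    have hi' : D.s.z ^ i = u * D.s.z * u⁻¹ := congrArg Subtype.val hi
    have hmem : u * D.s.z * u⁻¹ * D.s.z⁻¹ ∈ P :=
      mul_mem (hi' ▸ zpow_mem (Subgroup.mem_zpowers _) i) (inv_mem (Subgroup.mem_zpowers _))
    have hmemU : u * D.s.z * u⁻¹ * D.s.z⁻¹ ∈ U := by
      rw [show u * D.s.z * u⁻¹ * D.s.z⁻¹ = u * (D.s.z * u⁻¹ * D.s.z⁻¹) by group]
      exact mul_mem hu (‹U.Normal›.conj_mem _ (inv_mem hu) _)
    have h1 : orderOf (u * D.s.z * u⁻¹ * D.s.z⁻¹) ∣ 1 := by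
      rw [← (hp.coprime_iff_not_dvd.mpr hpU : Nat.gcd p _ = 1)]
      refine Nat.dvd_gcd ?_ (Subgroup.orderOf_dvd_natCard U hmemU)
      have := Subgroup.orderOf_dvd_natCard P hmem
      rwa [hPdef, Nat.card_zpowers, D.s.orderOf_z] at this
    exact mul_inv_eq_iff_eq_mul.mp (mul_inv_eq_one.mp
      (orderOf_eq_one_iff.mp (Nat.dvd_one.mp h1)))
  intro u hu
  refine D.mem_center_of_commute fun l hl => ?_
  have hle : D.L ≤ Subgroup.centralizer (U : Set G) :=
    D.L_le (Subgroup.mem_centralizer_iff.mpr fun w hw => (hcz w hw).eq)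
  exact Subgroup.mem_centralizer_iff.mp (hle hl) u hu

/-- Some element of `L` fuses `z` in its normalizer. -/
theorem exists_fusing : ∃ g ∈ Subgroup.normalizer ((Subgroup.zpowers D.s.z : Subgroup G) : Set G),
    g ∈ D.L ∧ g ∉ Subgroup.centralizer ({D.s.z} : Set G) := by
  obtain ⟨D', hD', -⟩ := D.exists_restrict
  by_contra h
  push Not at h
  refine D'.notMem_center (mem_center_of_no_fusion D'.s D'.hidx D'.χ D'.hf
    (by have := D'.hdeg; omega) fun g hg => ?_)
  obtain ⟨i, hi⟩ := Subgroup.mem_zpowers_iff.mp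
    ((Subgroup.mem_normalizer_iff.mp hg _).mp (Subgroup.mem_zpowers D'.s.z))
  have hgG : (g : G) ∈ Subgroup.normalizer ((Subgroup.zpowers D.s.z : Subgroup G) : Set G) := by
    rw [← hD', Subgroup.mem_normalizer_iff]
    intro x
    constructor
    · intro hx
      obtain ⟨j, rfl⟩ := Subgroup.mem_zpowers_iff.mp hx
      exact ⟨i * j, by
        have hi' := congrArg Subtype.val hi
        push_cast at hi'
        show _ ^ (i * j) = _
        rw [zpow_mul, hi', conj_zpow]⟩
    · intro hx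
      obtain ⟨j, hj⟩ := Subgroup.mem_zpowers_iff.mp hx
      have hxL : x ∈ D.L := by
        rw [show x = (g : G)⁻¹ * ((g : G) * x * (g : G)⁻¹) * g by group, ← hj]
        exact mul_mem (mul_mem (inv_mem g.2) (zpow_mem D'.s.z.2 j)) g.2
      have h' : g * ⟨x, hxL⟩ * g⁻¹ ∈ Subgroup.zpowers D'.s.z := ⟨j, Subtype.ext (by simpa using hj)⟩
      obtain ⟨j', hj'⟩ := (Subgroup.mem_normalizer_iff.mp hg ⟨x, hxL⟩).mpr h'
      exact ⟨j', by simpa using congrArg Subtype.val hj'⟩
  have h1 := Subgroup.mem_centralizer_singleton_iff.mp (h (g : G) hgG g.2)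
  exact Subgroup.mem_centralizer_singleton_iff.mpr (Subtype.ext (by
    push_cast; rw [hD']; exact h1))

/-- A reduction modulo `p`, with scalar centre and no kernel outside the elements of order
divisible by `p`. -/
theorem exists_reduced : ∃ (k : Type) (_ : Field k) (_ : IsAlgClosed k) (_ : CharP k p)
    (A : G →* Matrix (Fin (charDegree (D.χ : G → ℂ))) (Fin (charDegree (D.χ : G → ℂ))) k),
    (∀ c ∈ Subgroup.center G, ∃ ω : k, A c = ω • 1) ∧
      ∀ g : G, A g = 1 → ¬ p ∣ orderOf g → g = 1 := by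
  classical
  have hp : p.Prime := Fact.out
  obtain ⟨m, ρ, hρ, hρχ⟩ := D.χ.2
  have hm : charDegree (D.χ : G → ℂ) = m := by
    rw [charDegree, ← hρχ, ρ.char_one, Module.finrank_fin_fun, Complex.natCast_re,
      Nat.floor_natCast]
  rw [hm]
  obtain ⟨O, hO⟩ := exists_valuationSubring hp
  obtain ⟨B, hB⟩ := exists_matrix_hom O ρ
  haveI := charP_residue hp hO
  let r : O →+* AlgebraicClosure (IsLocalRing.ResidueField O) :=
    (algebraMap _ _).comp (IsLocalRing.residue O)
  let σ : Representation ℂ G (Fin m → ℂ) :=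
    Matrix.toLinAlgEquiv'.toMonoidHom.comp (O.subtype.mapMatrix.toMonoidHom.comp B)
  have hσ : σ.character = ρ.character := funext fun g => by
    rw [← hB]
    show LinearMap.trace ℂ _ (Matrix.toLin' ((B g).map O.subtype)) = _
    rw [Matrix.trace_toLin'_eq]
    simp [Matrix.trace]
  haveI : CharP (AlgebraicClosure (IsLocalRing.ResidueField O)) p :=
    charP_of_injective_algebraMap (algebraMap (IsLocalRing.ResidueField O) _).injective p
  refine ⟨AlgebraicClosure (IsLocalRing.ResidueField O), inferInstance, inferInstance, inferInstance,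
    r.mapMatrix.toMonoidHom.comp B, fun c hc => ?_, fun g hg hgo => ?_⟩
  · haveI := hρ
    obtain ⟨a, ha⟩ := CharClifford.exists_scalar_of_mem_center ρ hc
    obtain ⟨a', ha'⟩ := CharClifford.exists_scalar_of_norm_character_eq σ c (by
      rw [hσ]
      have hn : ∀ x : ℂ, ‖x‖ = 1 → ‖x * (m : ℂ)‖ = (m : ℝ) := fun x hx => by
        rw [norm_mul, hx, one_mul, Complex.norm_natCast]
      have h1 : ρ.character c = a * (m : ℂ) := by
        show LinearMap.trace ℂ _ (ρ c) = _
        rw [CharClifford.scalar_eq_of_trace ha, Module.finrank_fin_fun]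
      rw [h1, Module.finrank_fin_fun]
      refine hn a (Complex.norm_eq_one_of_pow_eq_one (n := orderOf c) ?_ (orderOf_pos c).ne')
      have hpow : ρ (c ^ orderOf c) = a ^ orderOf c • 1 := by rw [map_pow, ha, smul_pow, one_pow]
      rw [pow_orderOf_eq_one, map_one] at hpow
      have hm0 : 0 < m := hm ▸ charDegree_pos D.χ
      simpa using (congrFun (LinearMap.congr_fun hpow (fun _ => (1 : ℂ))) ⟨0, hm0⟩).symm)
    have hm0 : 0 < m := hm ▸ charDegree_pos D.χ
    have hBc : (B c).map O.subtype = a' • 1 := by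
      apply Matrix.toLin'.injective
      rw [map_smul, Matrix.toLin'_one]
      exact ha'
    refine ⟨r (B c ⟨0, hm0⟩ ⟨0, hm0⟩), ?_⟩
    have hBc' : B c = B c ⟨0, hm0⟩ ⟨0, hm0⟩ • 1 := by
      ext i j
      have h00 : ((B c ⟨0, hm0⟩ ⟨0, hm0⟩ : O) : ℂ) = a' := by
        have := congrFun (congrFun hBc ⟨0, hm0⟩) ⟨0, hm0⟩
        simpa using this
      have hij := congrFun (congrFun hBc i) j
      by_cases hij' : i = j
      · subst hij'; simpa [h00] using hij
      · simpa [hij'] using hij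
    show r.mapMatrix (B c) = _
    rw [hBc']
    ext i j
    by_cases hij : i = j <;> simp [hij]
  · set n := orderOf g with hn
    set S := ∑ i ∈ Finset.range n, B g ^ i with hS
    have hrS : r.mapMatrix S = (n : AlgebraicClosure (IsLocalRing.ResidueField O)) • 1 := by
      rw [hS, map_sum]
      simp only [map_pow]
      rw [show r.mapMatrix (B g) = 1 from hg]
      simp [Nat.cast_smul_eq_nsmul]
    have hunit : IsUnit S := by
      rw [Matrix.isUnit_iff_isUnit_det]
      by_contra h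
      have h1 : IsLocalRing.residue O S.det = 0 :=
        (IsLocalRing.residue_eq_zero_iff _).mpr h
      have h2 : r S.det = 0 := by simp [r, h1]
      rw [RingHom.map_det, hrS, Matrix.det_smul, Matrix.det_one, mul_one] at h2
      exact hgo ((CharP.cast_eq_zero_iff _ p n).mp (eq_zero_of_pow_eq_zero h2))
    have h0 : (B g - 1) * S = 0 := by
      rw [hS, mul_geom_sum, ← map_pow, pow_orderOf_eq_one, map_one, sub_self]
    have hBg : B g = 1 := sub_eq_zero.mp (hunit.mul_left_eq_zero.mp h0)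
    refine D.hf g ?_
    rw [← hρχ, ← hB, ← hB, hBg, map_one]

end Data

end Cfsg.Agent.Blocks88.HalfDegree
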