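import Cfsg.Agent.Blocks88.HalfDegree.Char
import Cfsg.Agent.Blocks88.HalfDegree.Adjoint
import Cfsg.Agent.Lib.SmallGroups.Mod.Sylow
import Cfsg.Agent.Lib.SmallGroups.Few.Ident
import Cfsg.Agent.Lib.SmallGroups.Few.Vanish
import Cfsg.Agent.Lib.LinearGroup.SmallPSL

/-!
# Faithful characters of degree `(p - 1) / 2`: the group modulo its centre
-/

set_option linter.unusedSectionVars false

open Cfsg

namespace Cfsg.Agent.Blocks88.HalfDegree

open BlocksCore BlkChar.SmallDegree SmallGroups.SelfCent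

universe u

variable {G : Type u} [Group G] [Fintype G] {p : ℕ} [Fact p.Prime]

theorem not_dvd_orderOf_pow (hsq : ¬ p ^ 2 ∣ Nat.card G) (x : G) : ¬ p ∣ orderOf (x ^ p) := by
  intro h
  by_cases hd : p ∣ orderOf x
  · refine hsq (Nat.dvd_trans ?_ (orderOf_dvd_natCard x))
    rw [orderOf_pow' x (Fact.out : p.Prime).ne_zero, Nat.gcd_eq_right hd] at h
    rw [pow_two]
    obtain ⟨c, hc⟩ := hd
    rw [hc, Nat.mul_div_cancel_left _ (Fact.out : p.Prime).pos] at h
    rw [hc]
    exact Nat.mul_dvd_mul_left p h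
  · exact hd (h.trans (orderOf_pow_dvd p))

namespace Data

variable (D : Data G p)
include D

theorem five_le : 5 ≤ p := by
  have hp : p.Prime := Fact.out
  have h2 := D.hdeg
  have h0 := charDegree_pos D.χ
  by_contra h
  have hp3 : p = 3 := by
    have := hp.two_le
    omega
  -- a linear faithful character makes `z` central
  obtain ⟨n, ρ, hρ, hρχ⟩ := D.χ.2
  have hn : charDegree (D.χ : G → ℂ) = n := by
    rw [charDegree, ← hρχ, ρ.char_one, Module.finrank_fin_fun, Complex.natCast_re,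
      Nat.floor_natCast]
  refine D.notMem_center (Subgroup.mem_center_iff.mpr fun g =>
    commutatorElement_eq_one_iff_mul_comm.mp (D.hf _ ?_))
  rw [← hρχ, commutatorElement_def]
  show LinearMap.trace ℂ _ (ρ (g * D.s.z * g⁻¹ * D.s.z⁻¹)) = LinearMap.trace ℂ _ (ρ 1)
  rw [apply_commutator_of_degree_one ρ (by omega), map_one ρ]

/-- In a reduction `z` survives. -/
theorem apply_z_ne_one {M : Type*} [Monoid M] (A : G →* M)
    (hA : ∀ g : G, A g = 1 → ¬ p ∣ orderOf g → g = 1) : A D.s.z ≠ 1 := by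
  intro h
  obtain ⟨g, hgN, hgL, hgC⟩ := D.exists_fusing
  have hgA : A g = 1 := (D.L_le (U := A.ker) h) hgL
  have hgp : g ^ p = 1 := hA _ (by rw [map_pow, hgA, one_pow]) (not_dvd_orderOf_pow D.hsq g)
  set N := Subgroup.normalizer ((Subgroup.zpowers D.s.z : Subgroup G) : Set G)
  haveI : ((Subgroup.zpowers D.s.z).subgroupOf N).Normal := Subgroup.normal_in_normalizer
  have hi : ¬ p ∣ ((Subgroup.zpowers D.s.z).subgroupOf N).index := fun hd =>
    D.hidx (hd.trans (Subgroup.relIndex_dvd_index_of_le Subgroup.le_normalizer))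
  obtain ⟨i, hi'⟩ := Subgroup.mem_zpowers_iff.mp (Subgroup.mem_subgroupOf.mp
    (mem_of_pow_eq_one (Fact.out : p.Prime) hi (y := (⟨g, hgN⟩ : N)) (Subtype.ext hgp)))
  refine hgC (Subgroup.mem_centralizer_singleton_iff.mpr ?_)
  rw [show g = D.s.z ^ i from hi'.symm]
  exact (Commute.zpow_left rfl i).eq

/-- The `p'`-part of the centralizer of `z` is central. -/
theorem K_le : D.s.K ≤ Subgroup.center G := by
  obtain ⟨k, _, _, _, A, -, hA⟩ := D.exists_reduced
  let ρ' : Representation k G (Fin (charDegree (D.χ : G → ℂ)) → k) :=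
    Matrix.toLinAlgEquiv'.toMonoidHom.comp A
  have hρz : ρ' D.s.z ≠ 1 := fun h =>
    D.apply_z_ne_one A hA (Matrix.toLinAlgEquiv'.injective (h.trans (map_one _).symm))
  obtain ⟨g, hgN, hgL, hgC⟩ := D.exists_fusing
  refine K_le_center_of D.s D.hidx ρ' ?_ hρz hgN hgC fun H hH hgH => ?_
  · rw [Module.finrank_fin_fun]
    have := D.hdeg
    omega
  · exact D.le_center_of_notMem fun hz => hgH (D.L_le hz hgL)

/-- The automizer of `⟨z⟩` has order `(p - 1) / 2`. -/
theorem card_auto : Nat.card D.s.auto = charDegree (D.χ : G → ℂ) := by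
  classical
  have hp : p.Prime := Fact.out
  set N := Subgroup.normalizer ((Subgroup.zpowers D.s.z : Subgroup G) : Set G) with hN
  set C := Subgroup.centralizer ({D.s.z} : Set G) with hC
  have hCN : C ≤ N := by
    rw [hC, hN, ← BlocksCore.centralizer_zpowers]
    exact Subgroup.centralizer_le_normalizer _
  have hrel : C.relIndex N = Nat.card D.s.auto := by
    have h2 : Nat.card (C.subgroupOf N) = Nat.card C :=
      Nat.card_congr (Subgroup.subgroupOfEquivOfLe hCN).toEquiv
    have h1 : Nat.card (C.subgroupOf N) * C.relIndex N = Nat.card N :=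
      Subgroup.card_mul_index (C.subgroupOf N)
    rw [h2, hC, D.s.card_cent, hN, D.s.card_normalizer, mul_comm] at h1
    exact Nat.eq_of_mul_eq_mul_right (Nat.mul_pos hp.pos Nat.card_pos) h1
  obtain ⟨m0, u, hdeg, -, hcase⟩ := degree_split D.s D.hidx D.K_le D.χ _ hrel
  have hd : Nat.card D.s.auto ∣ p - 1 := ⟨Nat.card D.s.Orb, by rw [mul_comm, D.s.card_orb_mul]⟩
  have h2 := D.hdeg
  have he2 := D.five_le
  set e := charDegree (D.χ : G → ℂ) with he
  set a := Nat.card D.s.auto with ha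
  have ha0 : 0 < a := Nat.card_pos
  have hale : a ≤ p - 1 := Nat.le_of_dvd (by omega) hd
  have hcases : ∀ t : ℕ, (p : ℤ) * m0 = t → t < 2 * p → t = 0 ∨ t = p := by
    intro t ht hlt
    rcases Nat.lt_or_ge m0 2 with h | h
    · interval_cases m0 <;> simp at ht <;> omega
    · exfalso
      have h3 : (p : ℤ) * 2 ≤ p * m0 := by gcongr; exact_mod_cast h
      omega
  rcases hcase with h | h | ⟨h, hm⟩ | ⟨h | ⟨h, hm⟩, -⟩
  · exfalso
    have := hcases e (by omega) (by omega)
    omega
  · exfalso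
    have h0 : (0 : ℤ) ≤ p * m0 := by positivity
    omega
  · exfalso
    have := hcases (e + (p - 1)) (by push_cast [Nat.cast_sub hp.one_le]; omega) (by omega)
    omega
  · rcases Nat.eq_zero_or_pos m0 with h0 | h0
    · subst h0; simp at hdeg; omega
    · exfalso
      have h3 : (p : ℤ) * 1 ≤ p * m0 := by gcongr; exact_mod_cast h0
      omega
  · exfalso
    have := hcases (e + a) (by push_cast; omega) (by omega)
    obtain ⟨c, hc⟩ := hd
    rcases Nat.lt_or_ge c 2 with h4 | h4
    · interval_cases c <;> omega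
    · have : a * 2 ≤ a * c := Nat.mul_le_mul_left a h4
      omega

/-- `G` is the product of `L` and the centre. -/
theorem sup_center : D.L ⊔ Subgroup.center G = ⊤ := by
  classical
  have hp : p.Prime := Fact.out
  obtain ⟨D', hD', hχ'⟩ := D.exists_restrict
  have hzp : ∀ a : ZMod p, ((D'.s.zp a : D.L) : G) = D.s.zp a := fun a => by
    rw [Setup.zp, Setup.zp, SubmonoidClass.coe_pow, hD']
  have hauto : D'.s.auto = D.s.auto := by
    refine Subgroup.eq_of_le_of_card_ge (fun a ha => ?_) (le_of_eq ?_)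
    · obtain ⟨g, hg⟩ := isConj_iff.mp ((D'.s.mem_auto_iff a).mp ha)
      refine (D.s.mem_auto_iff a).mpr (isConj_iff.mpr ⟨(g : G), ?_⟩)
      rw [← hzp, ← hg, ← hD']
      push_cast
      rfl
    · rw [D.card_auto, D'.card_auto, charDegree, charDegree, hχ' 1]
      rfl
  rw [eq_top_iff]
  intro g _
  have hgz : (g * D.s.z * g⁻¹) ^ p = 1 := by rw [conj_pow, D.zpow_p, mul_one, mul_inv_cancel]
  have hgo : orderOf (⟨_, D.mem_L_of_pow hgz⟩ : D.L) = p := by
    rw [Subgroup.orderOf_mk]
    exact (MulEquiv.orderOf_eq (MulAut.conj g) D.s.z).trans D.s.orderOf_z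
  have hP : IsPGroup p (Subgroup.zpowers D'.s.z) :=
    IsPGroup.of_card (n := 1) (by rw [Nat.card_zpowers, D'.s.orderOf_z, pow_one])
  obtain ⟨Q, hQ⟩ := (IsPGroup.of_card (n := 1) (by rw [Nat.card_zpowers, hgo, pow_one]) :
    IsPGroup p (Subgroup.zpowers (⟨_, D.mem_L_of_pow hgz⟩ : D.L))).exists_le_sylow
  obtain ⟨l, hl⟩ := MulAction.exists_smul_eq D.L Q (hP.toSylow D'.hidx)
  have hmem : l * ⟨_, D.mem_L_of_pow hgz⟩ * l⁻¹ ∈ Subgroup.zpowers D'.s.z := by
    have : l * ⟨_, D.mem_L_of_pow hgz⟩ * l⁻¹ ∈ ((l • Q : Sylow p D.L) : Subgroup D.L) :=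
      ⟨_, hQ (Subgroup.mem_zpowers _), rfl⟩
    rw [hl] at this
    exact this
  obtain ⟨i, hi⟩ := ((isOfFinOrder_of_finite D'.s.z).mem_powers_iff_mem_zpowers).mpr hmem
  have hi' : D.s.z ^ i = ((l : G) * g) * D.s.z * ((l : G) * g)⁻¹ := by
    have h := congrArg Subtype.val (hi : D'.s.z ^ i = _)
    push_cast at h
    rw [hD'] at h
    rw [h]
    group
  have hi0 : (i : ZMod p) ≠ 0 := fun h => by
    rw [← D.s.zp_natCast, h, D.s.zp_zero, eq_comm, conj_eq_one_iff] at hi'
    have := D.s.orderOf_z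
    rw [hi', orderOf_one] at this
    exact hp.ne_one this.symm
  have hau : Units.mk0 _ hi0 ∈ D'.s.auto := by
    rw [hauto, D.s.mem_auto_iff, Units.val_mk0, D.s.zp_natCast]
    exact isConj_iff.mpr ⟨_, hi'.symm⟩
  obtain ⟨m, hm⟩ := isConj_iff.mp ((D'.s.mem_auto_iff _).mp hau)
  have hm' : (m : G) * D.s.z * (m : G)⁻¹ = D.s.z ^ i := by
    have h := congrArg Subtype.val hm
    rw [hzp, Units.val_mk0, D.s.zp_natCast] at h
    push_cast at h
    rwa [hD'] at h
  have hc : (m : G)⁻¹ * ((l : G) * g) ∈ Subgroup.centralizer ({D.s.z} : Set G) := by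
    rw [Subgroup.mem_centralizer_singleton_iff, ← mul_inv_eq_iff_eq_mul]
    calc (m : G)⁻¹ * ((l : G) * g) * D.s.z * ((m : G)⁻¹ * ((l : G) * g))⁻¹
        = (m : G)⁻¹ * (((l : G) * g) * D.s.z * ((l : G) * g)⁻¹) * m := by group
      _ = (m : G)⁻¹ * ((m : G) * D.s.z * (m : G)⁻¹) * m := by rw [← hi', hm']
      _ = D.s.z := by group
  obtain ⟨a, w, hw, hceq⟩ := D.s.exists_of_mem_cent hc
  have hL : ∀ x ∈ D.L, x ∈ D.L ⊔ Subgroup.center G := fun x hx => Subgroup.mem_sup_left hx
  rw [show g = (l : G)⁻¹ * (m : G) * ((m : G)⁻¹ * ((l : G) * g)) by group, hceq]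
  exact mul_mem (mul_mem (hL _ (inv_mem l.2)) (hL _ m.2))
    (mul_mem (hL _ (pow_mem D.z_mem_L _)) (Subgroup.mem_sup_right (D.K_le hw)))

/-- Elements of order `p` equal modulo the centre are equal. -/
theorem eq_of_mk_eq {x y : G} (hx : x ^ p = 1) (hy : y ^ p = 1)
    (h : (x : G ⧸ Subgroup.center G) = y) : x = y := by
  set c := x⁻¹ * y with hcdef
  have hc : c ∈ Subgroup.center G := QuotientGroup.eq.mp h
  have hcp : c ^ p = 1 := by
    have hcx : Commute x c := Subgroup.mem_center_iff.mp hc x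
    have e : y = x * c := by rw [hcdef, mul_inv_cancel_left]
    rwa [e, hcx.mul_pow, hx, one_mul] at hy
  obtain ⟨i, hi⟩ := Subgroup.mem_zpowers_iff.mp
    (mem_zpowers_of_commute D.s (Subgroup.mem_center_iff.mp hc D.s.z).symm hcp)
  by_contra hne
  have hc1 : c ≠ 1 := fun h1 => hne (inv_mul_eq_one.mp h1)
  refine D.notMem_center ?_
  have hgen : Subgroup.zpowers c = Subgroup.zpowers D.s.z :=
    Subgroup.eq_of_le_of_card_ge (Subgroup.zpowers_le.mpr ⟨i, hi⟩) (by
      rw [Nat.card_zpowers, Nat.card_zpowers, D.s.orderOf_z, orderOf_eq_prime hcp hc1])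
  exact (Subgroup.zpowers_le.mpr hc) (hgen ▸ Subgroup.mem_zpowers D.s.z)

/-- The Setup of `G` modulo its centre. -/
theorem exists_setup_bar : ∃ s : Setup (G ⧸ Subgroup.center G) p, s.z = (D.s.z : G ⧸ _) ∧
    s.K = ⊥ ∧ Nat.card s.auto = charDegree (D.χ : G → ℂ) := by
  classical
  have hp : p.Prime := Fact.out
  have hz : orderOf (D.s.z : G ⧸ Subgroup.center G) = p :=
    orderOf_eq_prime (by rw [← QuotientGroup.mk_pow, D.zpow_p, QuotientGroup.mk_one]) fun h =>
      D.notMem_center ((QuotientGroup.eq_one_iff _).mp h)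
  have hcent : Subgroup.centralizer ({(D.s.z : G ⧸ Subgroup.center G)} : Set _) =
      Subgroup.zpowers (D.s.z : G ⧸ Subgroup.center G) := by
    refine le_antisymm (fun q hq => ?_) (Subgroup.zpowers_le.mpr
      (Subgroup.mem_centralizer_singleton_iff.mpr rfl))
    obtain ⟨g, rfl⟩ := QuotientGroup.mk_surjective q
    have h := Subgroup.mem_centralizer_singleton_iff.mp hq
    have hg : g * D.s.z * g⁻¹ = D.s.z := D.eq_of_mk_eq
      (by rw [conj_pow, D.zpow_p, mul_one, mul_inv_cancel]) D.zpow_p (by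
        rw [QuotientGroup.mk_mul, QuotientGroup.mk_mul, QuotientGroup.mk_inv, h,
          mul_inv_cancel_right])
    obtain ⟨a, w, hw, rfl⟩ := D.s.exists_of_mem_cent
      (Subgroup.mem_centralizer_singleton_iff.mpr (mul_inv_eq_iff_eq_mul.mp hg))
    rw [QuotientGroup.mk_mul, (QuotientGroup.eq_one_iff w).mpr (D.K_le hw), mul_one,
      Setup.zp, QuotientGroup.mk_pow]
    exact pow_mem (Subgroup.mem_zpowers _) _
  let s : Setup (G ⧸ Subgroup.center G) p :=
    { z := D.s.z
      K := ⊥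
      orderOf_z := hz
      comm := fun w hw => by rw [Subgroup.mem_bot.mp hw, one_mul, mul_one]
      not_dvd := by rw [Subgroup.card_bot]; exact hp.not_dvd_one
      card_cent := by rw [hcent, Nat.card_zpowers, hz, Subgroup.card_bot, mul_one] }
  refine ⟨s, rfl, rfl, ?_⟩
  rw [← D.card_auto]
  suffices h : s.auto = D.s.auto by rw [h]
  ext a
  rw [s.mem_auto_iff, D.s.mem_auto_iff]
  have hzp : s.zp (a : ZMod p) = ((D.s.zp (a : ZMod p) : G) : G ⧸ Subgroup.center G) :=
    (QuotientGroup.mk_pow _ _ _).symm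
  constructor
  · intro h
    obtain ⟨q, hq⟩ := isConj_iff.mp h
    obtain ⟨g, rfl⟩ := QuotientGroup.mk_surjective q
    refine isConj_iff.mpr ⟨g, D.eq_of_mk_eq (by rw [conj_pow, D.zpow_p, mul_one, mul_inv_cancel])
      (by rw [D.s.zp_pow, ZMod.natCast_self, mul_zero, D.s.zp_zero]) ?_⟩
    rw [QuotientGroup.mk_mul, QuotientGroup.mk_mul, QuotientGroup.mk_inv, ← hzp]
    exact hq
  · intro h
    obtain ⟨g, hg⟩ := isConj_iff.mp h
    exact isConj_iff.mpr ⟨(g : G ⧸ _), by rw [hzp, ← hg]; rfl⟩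

/-- `G` modulo its centre is simple. -/
theorem isSimpleGroup_bar : IsSimpleGroup (G ⧸ Subgroup.center G) := by
  haveI : Nontrivial (G ⧸ Subgroup.center G) :=
    ⟨⟨(D.s.z : G ⧸ _), 1, fun h => D.notMem_center ((QuotientGroup.eq_one_iff _).mp h)⟩⟩
  refine ⟨fun N hN => ?_⟩
  haveI := hN
  set U := N.comap (QuotientGroup.mk' (Subgroup.center G)) with hU
  have hNU : N = U.map (QuotientGroup.mk' (Subgroup.center G)) :=
    (Subgroup.map_comap_eq_self_of_surjective (QuotientGroup.mk'_surjective _) N).symm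
  by_cases hz : D.s.z ∈ U
  · right
    have hZU : Subgroup.center G ≤ U := fun c hc => by
      show (c : G ⧸ Subgroup.center G) ∈ N
      rw [(QuotientGroup.eq_one_iff c).mpr hc]
      exact one_mem _
    have : U = ⊤ := top_le_iff.mp (D.sup_center.symm.le.trans (sup_le (D.L_le hz) hZU))
    rw [hNU, this, Subgroup.map_top_of_surjective _ (QuotientGroup.mk'_surjective _)]
  · left
    rw [hNU, Subgroup.map_eq_bot_iff, QuotientGroup.ker_mk']
    exact D.le_center_of_notMem hz

open SmallGroups.Mod in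
/-- `G` modulo its centre is `PSL₂(p)`. -/
theorem nonempty_equiv : Nonempty ((G ⧸ Subgroup.center G) ≃*
    Matrix.ProjectiveSpecialLinearGroup (Fin 2) (ZMod p)) := by
  classical
  have hp : p.Prime := Fact.out
  have hp5 := D.five_le
  have hdeg := D.hdeg
  haveI := D.isSimpleGroup_bar
  haveI : Fintype (G ⧸ Subgroup.center G) := Fintype.ofFinite _
  obtain ⟨s, hsz, hK, hauto⟩ := D.exists_setup_bar
  set e := Nat.card s.auto with hedef
  have he : 2 ≤ e := by omega
  have hep : e < p := by omega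
  obtain ⟨φ, hsurj, hφ, hker⟩ := s.exists_act hK
  obtain ⟨a, ha⟩ := IsCyclic.exists_ofOrder_eq_natCard (α := s.auto)
  obtain ⟨g, hg⟩ := hsurj a
  have ha1 : ((a : (ZMod p)ˣ) : ZMod p) ≠ 1 := by
    intro h
    have h1 : a = 1 := Subtype.ext (Units.ext h)
    rw [h1, orderOf_one] at ha
    omega
  have hgz : ∀ j : ZMod p, (g : G ⧸ _) * s.zp j * (g : G ⧸ _)⁻¹ =
      s.zp (((a : (ZMod p)ˣ) : ZMod p) * j) := fun j => by
    have h1 : (g : G ⧸ _) * s.zp 1 * (g : G ⧸ _)⁻¹ = s.zp ((a : (ZMod p)ˣ) : ZMod p) := by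
      rw [s.zp_one, hφ g, hg]
    have := s.conj_zp_mul h1 j
    rwa [one_mul] at this
  have hge : (g : G ⧸ Subgroup.center G) ^ e = 1 := by
    have h1 : φ (g ^ e) = 1 := by rw [map_pow, hg, hedef, pow_card_eq_one']
    obtain ⟨i, hi⟩ := ((isOfFinOrder_of_finite s.z).mem_powers_iff_mem_zpowers).mpr ((hker _).mp h1)
    have hi' : (g : G ⧸ Subgroup.center G) ^ e = s.zp (i : ZMod p) := by
      rw [s.zp_natCast, ← SubmonoidClass.coe_pow]; exact hi.symm
    have h2 := hgz (i : ZMod p)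
    rw [← hi', ← pow_succ', pow_succ, mul_inv_cancel_right, hi'] at h2
    have h3 : ((i : ZMod p)) * (1 - ((a : (ZMod p)ˣ) : ZMod p)) = 0 := by
      linear_combination s.zp_injective h2
    rw [hi', (mul_eq_zero.mp h3).resolve_right (sub_ne_zero.mpr ha1.symm), s.zp_zero]
  have hnorm : ∀ g : G ⧸ Subgroup.center G,
      g * s.z * g⁻¹ ∈ Subgroup.zpowers s.z → g ∈ s.norm := by
    intro g hg
    have key : (Subgroup.zpowers s.z).map (MulAut.conj g).toMonoidHom = Subgroup.zpowers s.z := by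
      refine Subgroup.eq_of_le_of_card_ge ?_ ?_
      · rw [MonoidHom.map_zpowers, Subgroup.zpowers_le]
        exact hg
      · rw [Nat.card_congr ((Subgroup.zpowers s.z).equivMapOfInjective
          (MulAut.conj g).toMonoidHom (MulAut.conj g).injective).toEquiv]
    rw [Subgroup.mem_normalizer_iff]
    intro w
    conv_rhs => rw [← key]
    exact ⟨fun hw => ⟨w, hw, rfl⟩, fun ⟨y, hy, hyw⟩ => (MulAut.conj g).injective hyw ▸ hy⟩
  have hTI : ∀ g : G ⧸ Subgroup.center G, g⁻¹ * s.z * g ∈ s.norm → g ∈ s.norm := by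
    intro g hg
    set x : s.norm := ⟨g⁻¹ * s.z * g, hg⟩ with hx
    have hxp : x ^ p = 1 := by
      apply Subtype.ext
      rw [SubmonoidClass.coe_pow, hx]
      show (g⁻¹ * s.z * g) ^ p = 1
      have : g⁻¹ * s.z * g = MulAut.conj g⁻¹ s.z := by simp
      rw [this, ← map_pow, orderOf_dvd_iff_pow_eq_one.mp (dvd_of_eq s.orderOf_z), map_one]
    have h1 : φ x = 1 := by
      rw [← orderOf_eq_one_iff]
      have h2 : orderOf (φ x) ∣ p := orderOf_dvd_of_pow_eq_one (by rw [← map_pow, hxp, map_one])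
      have h3 : orderOf (φ x) ≤ e := Nat.le_of_dvd Nat.card_pos (orderOf_dvd_natCard _)
      rcases (Nat.dvd_prime hp).mp h2 with h | h
      · exact h
      · omega
    have h4 : g⁻¹ * s.z * g ∈ Subgroup.zpowers s.z := (hker x).mp h1
    have := hnorm g⁻¹ (by rwa [inv_inv])
    simpa using inv_mem this
  obtain ⟨k, _, _, _, A, hAc, hA⟩ := D.exists_reduced
  have hcast : (((((a : (ZMod p)ˣ) : ZMod p)).val : ℕ) : k) =
      ZMod.castHom (dvd_refl p) k ((a : (ZMod p)ˣ) : ZMod p) := by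
    rw [← map_natCast (ZMod.castHom (dvd_refl p) k), ZMod.natCast_zmod_val]
  let f : Frob (G ⧸ Subgroup.center G) p k :=
    { z := s.z
      w := g
      A := ((a : (ZMod p)ˣ) : ZMod p).val
      e := e
      H := s.norm
      hz := s.orderOf_z
      he := by omega
      hep := hep
      hw := hge
      hwz := by
        have h := hgz 1
        rw [mul_one, s.zp_one] at h
        exact mul_inv_eq_iff_eq_mul.mp h
      ha := by
        rw [hcast]
        refine (orderOf_injective (ZMod.castHom (dvd_refl p) k).toMonoidHom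
          (ZMod.castHom (dvd_refl p) k).injective _).trans ?_
        rw [orderOf_units, Subgroup.orderOf_coe, ha]
      hzH := Subgroup.le_normalizer (Subgroup.mem_zpowers s.z)
      hgen := by
        intro h hh
        obtain ⟨j, hj⟩ : ∃ j : ℕ, a ^ j = φ ⟨h, hh⟩ := by
          have htop : Subgroup.zpowers a = ⊤ :=
            Subgroup.eq_top_of_card_eq _ (by rw [Nat.card_zpowers, ha])
          exact (mem_powers_iff_mem_zpowers).mpr (htop ▸ Subgroup.mem_top _)
        have h1 : φ (⟨h, hh⟩ * (g ^ j)⁻¹) = 1 := by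
          rw [map_mul, map_inv, map_pow, hg, hj, mul_inv_cancel]
        obtain ⟨i, hi⟩ :=
          ((isOfFinOrder_of_finite s.z).mem_powers_iff_mem_zpowers).mpr ((hker _).mp h1)
        refine ⟨i, j, ?_⟩
        rw [show s.z ^ i = h * ((g : G ⧸ _) ^ j)⁻¹ from hi, inv_mul_cancel_right]
      hTI := hTI }
  -- the lifts
  obtain ⟨w, hw⟩ := QuotientGroup.mk_surjective (g : G ⧸ Subgroup.center G)
  have hwz : w * D.s.z = D.s.z ^ f.A * w := by
    refine mul_inv_eq_iff_eq_mul.mp (D.eq_of_mk_eq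
      (by rw [conj_pow, D.zpow_p, mul_one, mul_inv_cancel])
      (by rw [← pow_mul, mul_comm, pow_mul, D.zpow_p, one_pow]) ?_)
    rw [QuotientGroup.mk_mul, QuotientGroup.mk_mul, QuotientGroup.mk_inv, QuotientGroup.mk_pow,
      hw, ← hsz]
    exact mul_inv_eq_iff_eq_mul.mpr f.hwz
  -- the nilpotency
  haveI : Nonempty (Fin (charDegree (D.χ : G → ℂ))) := ⟨⟨0, charDegree_pos D.χ⟩⟩
  haveI : CharP (Matrix (Fin (charDegree (D.χ : G → ℂ))) (Fin (charDegree (D.χ : G → ℂ))) k) p :=
    charP_of_injective_ringHom (algebraMap k (Matrix (Fin (charDegree (D.χ : G → ℂ))) (Fin (charDegree (D.χ : G → ℂ))) k)).injective p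
  set Δ := A D.s.z - 1 with hΔdef
  have hΔ0 : Δ ≠ 0 := sub_ne_zero.mpr (D.apply_z_ne_one A hA)
  have hnil : IsNilpotent Δ := ⟨p, by
    rw [hΔdef, sub_pow_char_of_commute p (Commute.one_right _), one_pow, ← map_pow, D.zpow_p,
      map_one, sub_self]⟩
  set ℓ := nilpotencyClass Δ
  have hℓ : 2 ≤ ℓ := by
    by_contra h
    have h1 : Δ ^ 1 = 0 := pow_eq_zero_of_le (by omega) (pow_nilpotencyClass hnil)
    exact hΔ0 (by simpa using h1)
  have hℓd : ℓ ≤ charDegree (D.χ : G → ℂ) := by
    have h1 : Δ ^ charDegree (D.χ : G → ℂ) = 0 := by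
      have h3 : IsNilpotent (Matrix.toLinAlgEquiv' Δ) := hnil.map _
      have h4 := (LinearMap.isNilpotent_iff_charpoly _).mp h3
      rw [Module.finrank_fintype_fun_eq_card, Fintype.card_fin] at h4
      have h5 := LinearMap.aeval_self_charpoly (Matrix.toLinAlgEquiv' Δ)
      rw [h4, map_pow, Polynomial.aeval_X, ← map_pow] at h5
      exact Matrix.toLinAlgEquiv'.injective (h5.trans (map_zero _).symm)
    exact Nat.sInf_le h1
  obtain ⟨R, hRz, hform⟩ := exists_adjoint_proj (QuotientGroup.mk' (Subgroup.center G))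
    (QuotientGroup.mk'_surjective _) f (z := D.s.z) (w := w) hsz.symm hw hwz A
    (fun c hc => hAc c ((QuotientGroup.eq_one_iff c).mp hc)) hℓ (by omega)
    (pow_nilpotencyClass hnil) (pow_pred_nilpotencyClass hnil)
  have hRz' : R s.z = adA k := hRz
  have hRinj : Function.Injective R := by
    rcases (inferInstance : R.ker.Normal).eq_bot_or_eq_top with h | h
    · intro x y hxy
      have h' : x * y⁻¹ ∈ R.ker := by
        rw [MonoidHom.mem_ker, map_mul, hxy, ← map_mul, mul_inv_cancel, map_one]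
      rw [h, Subgroup.mem_bot] at h'
      exact mul_inv_eq_one.mp h'
    · exfalso
      have h1 : R s.z = 1 := MonoidHom.mem_ker.mp (h ▸ Subgroup.mem_top s.z)
      rw [hRz'] at h1
      simpa [adA] using congrFun (congrFun h1 1) 0
  have hle := index_le hp5 R hRinj s.orderOf_z hRz' hform s.norm (fun u hu => by
    obtain ⟨i, w, hw, rfl⟩ :=
      s.exists_of_mem_cent (Subgroup.mem_centralizer_singleton_iff.mpr hu.eq)
    rw [hK, Subgroup.mem_bot] at hw
    rw [hw, mul_one]
    exact pow_mem (Subgroup.mem_zpowers _) _) hnorm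
  -- the order
  have hidx : ¬ p ∣ (Subgroup.zpowers s.z).index := fun h => D.hsq (by
    have h1 := Subgroup.card_mul_index (Subgroup.zpowers s.z)
    rw [Nat.card_zpowers, s.orderOf_z] at h1
    rw [← Subgroup.card_mul_index (Subgroup.center G), pow_two]
    exact Dvd.dvd.mul_left (show p * p ∣ (Subgroup.center G).index by
      rw [show (Subgroup.center G).index = Nat.card (G ⧸ Subgroup.center G) from rfl, ← h1]
      exact Nat.mul_dvd_mul_left p h) _)
  have hN : Nat.card s.norm = e * p := by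
    have h1 := s.card_normalizer
    rw [show Nat.card s.K = 1 by rw [hK, Subgroup.card_bot], mul_one] at h1
    exact h1
  have hne : ¬ IsMulCommutative (G ⧸ Subgroup.center G) := by
    intro hc
    have hbot : s.auto = ⊥ := by
      rw [eq_bot_iff]
      intro b hb
      obtain ⟨x, hx⟩ := isConj_iff.mp ((s.mem_auto_iff b).mp hb)
      rw [isMulCommutative_iff.mp hc x s.z, mul_inv_cancel_right, ← s.zp_one] at hx
      exact Subgroup.mem_bot.mpr (Units.ext (by rw [Units.val_one]; exact (s.zp_injective hx).symm))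
    rw [hedef, hbot, Subgroup.card_bot] at he
    omega
  have hn : Nat.card ((G ⧸ Subgroup.center G) ⧸ s.norm) = p + 1 := by
    set n := Nat.card ((G ⧸ Subgroup.center G) ⧸ s.norm) with hndef
    have hPp : IsPGroup p (Subgroup.zpowers s.z) :=
      IsPGroup.of_card (n := 1) (by rw [Nat.card_zpowers, s.orderOf_z, pow_one])
    have hmod : n ≡ 1 [MOD p] := by
      have := card_sylow_modEq_one p (G ⧸ Subgroup.center G)
      rwa [Sylow.card_eq_index_normalizer (hPp.toSylow hidx)] at this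
    have hn1 : n ≠ 1 := by
      intro h
      have htop : s.norm = ⊤ := Subgroup.index_eq_one.mp h
      haveI : (Subgroup.zpowers s.z).Normal := Subgroup.normalizer_eq_top_iff.mp htop
      rcases (inferInstance : (Subgroup.zpowers s.z).Normal).eq_bot_or_eq_top with h1 | h1
      · rw [Subgroup.zpowers_eq_bot] at h1
        have h3 := s.orderOf_z
        rw [h1, orderOf_one] at h3
        omega
      · refine hne (isMulCommutative_iff.mpr fun x y => ?_)
        obtain ⟨i, rfl⟩ := Subgroup.mem_zpowers_iff.mp (h1 ▸ Subgroup.mem_top x)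
        obtain ⟨j, rfl⟩ := Subgroup.mem_zpowers_iff.mp (h1 ▸ Subgroup.mem_top y)
        exact (zpow_mul_comm s.z i j)
    have hn0 : n ≠ 0 := Nat.card_pos.ne'
    obtain ⟨c, hc⟩ := (Nat.modEq_iff_dvd' (by omega : 1 ≤ n)).mp hmod.symm
    rcases Nat.lt_or_ge c 2 with h4 | h4
    · interval_cases c <;> omega
    · have : p * 2 ≤ p * c := Nat.mul_le_mul_left p h4
      omega
  have hcard : Nat.card (G ⧸ Subgroup.center G) = e * p * (p + 1) := by
    rw [← Subgroup.card_mul_index s.norm, hN, Subgroup.index, hn]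
  obtain ⟨F, i1, i2, hF, ⟨ψ⟩⟩ := SmallGroups.Few.exists_psl_prime hne s hK hp5 (by omega) hcard
  haveI : CharP F p := charP_of_card_eq_prime hF
  exact ⟨ψ.trans (LinearGroup.pslCongr (ZMod.ringEquiv F hF).symm)⟩

end Data

end Cfsg.Agent.Blocks88.HalfDegree
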